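import Groth.Agent.L23.SiteFacts
import Groth.Agent.L23.AffineMor
import Mathlib.AlgebraicGeometry.AffineTransitionLimit
import Mathlib.CategoryTheory.Limits.Constructions.Over.Connected

/-!
# Limits of reduced spaces along affine transition maps
-/

universe u

open CategoryTheory CategoryTheory.Limits AlgebraicGeometry Opposite AlgSp

set_option autoImplicit false
set_option linter.style.haveILetI false
set_option backward.isDefEq.respectTransparency false
set_option backward.isDefEq.respectTransparency.types false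

noncomputable section

namespace Groth.L09.LimReduced

open Groth.L23

variable {S : Scheme.{u}} {I : Type u} [SmallCategory I]

/-- A cofiltered diagram of affine schemes has a limit. -/
theorem exists_limit_affine {J : Type u} [SmallCategory J] [IsCofiltered J] (F : J ⥤ Scheme.{u})
    [∀ i, IsAffine (F.obj i)] : ∃ c : Cone F, Nonempty (IsLimit c) := by
  let e : F ⟶ (F ⋙ Scheme.Γ.rightOp) ⋙ Scheme.Spec := Functor.whiskerLeft F ΓSpec.adjunction.unit
  have (i : J) : IsIso (e.app i) := IsAffine.affine
  have : IsIso e := NatIso.isIso_of_isIso_app e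
  exact ⟨_, ⟨(IsLimit.postcomposeInvEquiv (asIso e) _).symm
    (isLimitOfPreserves Scheme.Spec (limit.isLimit (F ⋙ Scheme.Γ.rightOp)))⟩⟩

theorem isReduced_of_isLimit {J : Type u} [SmallCategory J] [IsCofiltered J] {F : J ⥤ Scheme.{u}}
    [∀ i, IsAffine (F.obj i)] [∀ i, IsReduced (F.obj i)] {c : Cone F} (hc : IsLimit c) [IsAffine c.pt] :
    IsReduced c.pt := by
  haveI : _root_.IsReduced Γ(c.pt, ⊤) := by
    refine ⟨fun x ⟨n, hn⟩ => ?_⟩
    obtain ⟨i, t, rfl⟩ := exists_appTop_π_eq_of_isAffine_of_isLimit F c hc x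
    obtain ⟨j, f, hj⟩ := exists_appTop_map_eq_zero_of_isAffine_of_isLimit F c hc i (t ^ n)
      (by rw [map_pow, hn])
    rw [map_pow] at hj
    have h0 : (F.map f).appTop t = 0 := IsReduced.eq_zero _ ⟨n, hj⟩
    rw [← c.w f, Scheme.Hom.comp_appTop]
    exact (congrArg (fun z => (c.π.app j).appTop.hom z) h0).trans (map_zero _)
  exact isReduced_of_isOpenImmersion c.pt.isoSpec.hom

variable [IsCofiltered I] {D : I ⥤ Sp S}

theorem isPullback_limit (hDa : ∀ (i j : I) (φ : i ⟶ j), IsAffineMor (D.map φ)) {c : Cone D}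
    (hc : IsLimit c) {i₀ : I} {T : Over S} [IsAffine T.left] (a : (yon S).obj T ⟶ D.obj i₀) :
    ∃ (W : Over S) (q : W ⟶ T) (l : (yon S).obj W ⟶ c.pt),
      IsPullback l ((yon S).map q) (c.π.app i₀) a ∧ IsAffine W.left ∧
        ((∀ (j : I) (V : Over S) (b : (yon S).obj V ⟶ D.obj j), RepWith @Etale b → IsReduced V.left) →
          RepWith @Etale a → IsReduced W.left) := by
  choose Wj p fj sqj hWj using fun j : Over i₀ => hDa j.left i₀ j.hom (Z := T) inferInstance a
  have hmap : ∀ {j k : Over i₀} (φ : j ⟶ k), ∃ m : Wj j ⟶ Wj k,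
      (yon S).map m ≫ fj k = fj j ≫ D.map φ.left ∧ m ≫ p k = p j := by
    intro j k φ
    let n := (sqj k).lift (fj j ≫ D.map φ.left) ((yon S).map (p j))
      (by rw [Category.assoc, ← Functor.map_comp, Over.w φ, (sqj j).w])
    obtain ⟨m, hm⟩ := (yon S).map_surjective n
    refine ⟨m, by rw [hm, IsPullback.lift_fst], (yon S).map_injective ?_⟩
    rw [Functor.map_comp, hm, IsPullback.lift_snd]
  choose m hm₁ hm₂ using @hmap
  have hext : ∀ {Z : Over S} {k : Over i₀} (x y : Z ⟶ Wj k),
      (yon S).map x ≫ fj k = (yon S).map y ≫ fj k → x ≫ p k = y ≫ p k → x = y := fun x y e₁ e₂ =>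
    (yon S).map_injective ((sqj _).hom_ext e₁ (by rw [← Functor.map_comp, ← Functor.map_comp, e₂]))
  let W : Over i₀ ⥤ Over S :=
    { obj := Wj
      map := fun φ => m φ
      map_id := fun j => hext _ _ (by rw [hm₁]; simp) (by rw [hm₂]; simp)
      map_comp := fun φ ψ => hext _ _
        (by rw [hm₁, Functor.map_comp_assoc, hm₁, reassoc_of% (hm₁ φ)]; simp)
        (by rw [hm₂, Category.assoc, hm₂, hm₂]) }
  haveI : ∀ j, IsAffine ((W ⋙ Over.forget S).obj j) := hWj
  obtain ⟨cs, ⟨hcs⟩⟩ := exists_limit_affine (W ⋙ Over.forget S)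
  haveI : IsAffine cs.pt := Scheme.isAffine_of_isLimit _ hcs
  let top : Over i₀ := Over.mk (𝟙 i₀)
  let pt : Over S := Over.mk (cs.π.app top ≫ (W.obj top).hom)
  let cW : Cone W :=
    { pt := pt
      π :=
        { app := fun j => Over.homMk (cs.π.app j) (by
            have w := cs.w (Over.homMk j.hom : j ⟶ top)
            change cs.π.app j ≫ (Wj j).hom = cs.π.app top ≫ (Wj top).hom
            rw [← w]
            exact ((Category.assoc _ _ _).trans (congrArg (cs.π.app j ≫ ·) (Over.w (m (Over.homMk j.hom : j ⟶ top))))).symm)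
          naturality := fun j k φ => Over.OverMorphism.ext (cs.π.naturality φ) } }
  haveI : IsConnected (Over i₀) := IsCofiltered.isConnected _
  have hcW : IsLimit cW := isLimitOfReflects (Over.forget S)
    (hcs.ofIsoLimit (Cone.ext (Iso.refl _) (fun j => (Category.id_comp _).symm)))
  have hY : IsLimit ((yon S).mapCone cW) := isLimitOfPreserves (yon S) hcW
  have hc' : IsLimit (c.whisker (Over.forget i₀)) :=
    (Functor.Initial.isLimitWhiskerEquiv (Over.forget i₀) c).symm hc
  let cD : Cone (Over.forget i₀ ⋙ D) :=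
    { pt := (yon S).obj pt
      π :=
        { app := fun j => (yon S).map (cW.π.app j) ≫ fj j
          naturality := fun j k φ => by
            have w := cW.w φ
            simp only [Functor.const_obj_obj, Functor.const_obj_map, Category.id_comp]
            rw [← w, Functor.map_comp_assoc]
            exact (congrArg (_ ≫ ·) (hm₁ φ)).trans (Category.assoc _ _ _).symm } }
  let q : pt ⟶ T := cW.π.app top ≫ p top
  have hq : ∀ j, cW.π.app j ≫ p j = q := fun j => by
    show _ = cW.π.app top ≫ p top
    rw [← cW.w (Over.homMk j.hom : j ⟶ top), Category.assoc]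
    exact congrArg (_ ≫ ·) (hm₂ _).symm
  let l : (yon S).obj pt ⟶ c.pt := hc'.lift cD
  have hl : ∀ j : Over i₀, l ≫ c.π.app j.left = (yon S).map (cW.π.app j) ≫ fj j := fun j => hc'.fac cD j
  refine ⟨pt, q, l, IsPullback.mk' ?_ ?_ ?_, inferInstanceAs (IsAffine cs.pt), fun hred ha => ?_⟩
  · have w := hl top
    change l ≫ c.π.app i₀ = _ at w
    rw [w, Functor.map_comp, Category.assoc, ← (sqj top).w]
    simp [top]
  · intro Z x y e₁ e₂
    refine hY.hom_ext fun j => (sqj j).hom_ext ?_ ?_
    · simpa [← hl] using e₁ =≫ c.π.app j.left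
    · simpa [← Functor.map_comp, hq] using e₂
  · intro Z u v huv
    have hu : ∀ j : Over i₀, (u ≫ c.π.app j.left) ≫ D.map j.hom = v ≫ a := fun j => by
      rw [Category.assoc, c.w]; exact huv
    let cZ : Cone (W ⋙ yon S) :=
      { pt := Z
        π :=
          { app := fun j => (sqj j).lift (u ≫ c.π.app j.left) v (hu j)
            naturality := fun j k φ => by
              apply (sqj k).hom_ext
              · simp only [Functor.const_obj_map, Functor.comp_map, Category.assoc, IsPullback.lift_fst,
                  Category.id_comp, hm₁ φ, W, IsPullback.lift_fst_assoc, c.w]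
                exact Category.id_comp _
              · simp only [Functor.const_obj_map, Functor.comp_map, Category.assoc, IsPullback.lift_snd,
                  Category.id_comp, ← Functor.map_comp, hm₂ φ, W]
                exact Category.id_comp _ } }
    refine ⟨hY.lift cZ, hc'.hom_ext fun j => ?_, ?_⟩
    · show (_ ≫ l) ≫ c.π.app j.left = u ≫ c.π.app j.left
      rw [Category.assoc, hl]
      exact (reassoc_of% (hY.fac cZ j)) (fj j) |>.trans (IsPullback.lift_fst _ _ _ _)
    · rw [← hq top, Functor.map_comp]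
      exact ((reassoc_of% (hY.fac cZ top)) ((yon S).map (p top))).trans (IsPullback.lift_snd _ _ _ _)
  · haveI : ∀ j, IsReduced ((W ⋙ Over.forget S).obj j) := fun j =>
      hred j.left (Wj j) (fj j) (repWith_of_isPullback (sqj j).flip ha)
    exact isReduced_of_isLimit (c := cs) hcs

end Groth.L09.LimReduced
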